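import Groth.Agent.BunMod.K757.Geo
import Groth.Agent.BunMod.K757.HomOver
import Groth.Agent.VBCurve.K706.TensSS

/-!
# Tensor products and duals of families of semistable bundles; the tensor product morphism of moduli spaces

`f : X ⟶ Spec k` a smooth proper geometrically connected curve over a field of characteristic zero.

* `ussOK_tens`: the tensor product of two admissible families is admissible;
* `ussOK_dual`: the dual of an admissible family is admissible;
* `existsUnique_prod₂`: `M₁ ⊗ M₂` corepresents the product of two universally corepresented problems;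
* `exists_tens`: the tensor product morphism `M₁ ⊗ M₂ ⟶ M₃`.
-/

set_option autoImplicit false
universe u
open CategoryTheory CategoryTheory.Limits AlgebraicGeometry MonoidalCategory CartesianMonoidalCategory

namespace K706.TensFam

open Groth.Agent K757.Fam K757.Geo K757.HomOver

section curve

open VarietyA.DegRank K707.Base K707.Deg K707.Slope K707.Semi K707.TensL

variable {k : Type u} [Field k] {X : Scheme.{u}} [X.Over (Spec (CommRingCat.of k))]

theorem charZero_of_spec [CharZero k] {Ω : Type u} [Field Ω]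
    (s : Spec (CommRingCat.of Ω) ⟶ Spec (CommRingCat.of k)) : CharZero Ω :=
  charZero_of_injective_ringHom (f := (Spec.preimage s).hom) (RingHom.injective _)

variable [IsIntegral X] [IsProper (X ↘ (Spec (CommRingCat.of k)))]

theorem deg_tens (C : Crv k X) {E F : X.Modules} {r m : ℕ} (hE : FlatMod.IsFinLocFreeOfRank r E)
    (hF : FlatMod.IsFinLocFreeOfRank m F) (hEF : FlatMod.IsFinLocFreeOfRank (r * m) (CohB1.tensorMod E F)) :
    Curv2.deg k X (CohB1.tensorMod E F) (r * m) = m * Curv2.deg k X E r + r * Curv2.deg k X F m := by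
  have h := dg_tensor k C.dim hF (isCoh_of_rank hE)
  rw [dg_of_rank k hEF, dg_of_rank k hE, dg_of_rank k hF, rk_of_rank hE] at h
  exact h

end curve

section fam

variable {k : Type u} [Field k] {X : Scheme.{u}} {f : X ⟶ Spec (CommRingCat.of k)}
  {T T' : Over (Spec (CommRingCat.of k))} [IsProper f] [Smooth f] [GeometricallyConnected f]

theorem rank_tensMod {Y : Scheme.{u}} {r m : ℕ} {E F : Y.Modules} (hE : FlatMod.IsFinLocFreeOfRank r E)
    (hF : FlatMod.IsFinLocFreeOfRank m F) : FlatMod.IsFinLocFreeOfRank (r * m) (CohB1.tensorMod E F) :=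
  Krr.H487.KerRank.isFinLocFreeOfRank_tensor hE hF

/-- **The tensor product of two admissible families is admissible.** -/
theorem ussOK_tens [CharZero k] (hdim : topologicalKrullDim X = 1) {r m : ℕ} {d e : ℤ}
    {E F : (PicF.XT f T).Modules} (hE : BunMod.ussOK f r d T E) (hF : BunMod.ussOK f m e T F) :
    BunMod.ussOK f (r * m) (m * d + r * e) T (CohB1.tensorMod E F) := by
  refine ⟨rank_tensMod hE.1 hF.1, ?_, ?_⟩
  · rw [fibDeg_iff]
    intro Ω _ _ s a
    let _ : (PicF.XT f (Over.mk s)).Over (Spec (CommRingCat.of Ω)) := ⟨PicF.XTproj f (Over.mk s)⟩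
    have h1 := isIntegral_XT (f := f) s
    have h2 : IsProper (PicF.XT f (Over.mk s) ↘ Spec (CommRingCat.of Ω)) :=
      inferInstanceAs (IsProper (pullback.snd f s))
    rw [deg_congr (pl_tens f a E F), deg_tens (crv_XT hdim s) (rank_pull _ hE.1) (rank_pull _ hF.1)
      (rank_tensMod (rank_pull _ hE.1) (rank_pull _ hF.1))]
    have h3 := fibDeg_iff.1 hE.2.1 Ω s a
    have h4 := fibDeg_iff.1 hF.2.1 Ω s a
    rw [h3, h4]
  · rw [fibSS_iff]
    intro Ω _ _ s a
    let _ : (PicF.XT f (Over.mk s)).Over (Spec (CommRingCat.of Ω)) := ⟨PicF.XTproj f (Over.mk s)⟩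
    have h1 := isIntegral_XT (f := f) s
    have h2 : IsProper (PicF.XT f (Over.mk s) ↘ Spec (CommRingCat.of Ω)) :=
      inferInstanceAs (IsProper (pullback.snd f s))
    have := charZero_of_spec s
    obtain ⟨e⟩ := pl_tens f a E F
    have h3 := (K706.TensSS.slopeSemistable_tensor (crv_XT hdim s) (rank_pull _ hE.1) (rank_pull _ hF.1)
      (fibSS_iff.1 hE.2.2 Ω s a) (fibSS_iff.1 hF.2.2 Ω s a)).2
    rw [mul_comm] at h3
    exact ssk_congr ⟨e.symm⟩ (r * m) h3

/-- The degree zero case. -/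
theorem ussOK_tens_zero [CharZero k] (hdim : topologicalKrullDim X = 1) {r m : ℕ}
    {E F : (PicF.XT f T).Modules} (hE : BunMod.ussOK f r 0 T E) (hF : BunMod.ussOK f m 0 T F) :
    BunMod.ussOK f (r * m) 0 T (CohB1.tensorMod E F) := by
  have h := ussOK_tens hdim hE hF
  rwa [mul_zero, mul_zero, add_zero] at h

open scoped Groth.Agent.Dcoh.MonCat

/-- **The dual of an admissible family is admissible.** -/
theorem ussOK_dual (hdim : topologicalKrullDim X = 1) {r : ℕ} {d : ℤ} {E : (PicF.XT f T).Modules}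
    (hE : BunMod.ussOK f r d T E) (E' : (PicF.XT f T).Modules) [ExactPairing E E'] :
    BunMod.ussOK f r (-d) T E' := by
  refine ⟨K708.Dual.rank_dual hE.1 E', ?_, ?_⟩
  · rw [fibDeg_iff]
    intro Ω _ _ s a
    let _ : (PicF.XT f (Over.mk s)).Over (Spec (CommRingCat.of Ω)) := ⟨PicF.XTproj f (Over.mk s)⟩
    have h1 := isIntegral_XT (f := f) s
    have h2 : IsProper (PicF.XT f (Over.mk s) ↘ Spec (CommRingCat.of Ω)) :=
      inferInstanceAs (IsProper (pullback.snd f s))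
    let _ := Dcoh.MonPull.monPull (PicF.XTmap f a)
    let _ : ExactPairing (pl f a E) (pl f a E') :=
      Dcoh.MonDual.mapExactPairing (Scheme.Modules.pullback (PicF.XTmap f a)) E E'
    have h3 := fibDeg_iff.1 hE.2.1 Ω s a
    have r1 : FlatMod.IsFinLocFreeOfRank r (pl f a E) := rank_pull _ hE.1
    have h5 := K708.DualDeg.dg_dual (crv_XT hdim s) (K707.Base.isFinLocFree_of_rank r1) (pl f a E')
    rw [K707.Deg.dg_of_rank Ω r1, K707.Deg.dg_of_rank Ω (K708.Dual.rank_dual r1 (pl f a E')), h3] at h5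
    exact h5
  · rw [fibSS_iff]
    intro Ω _ _ s a
    let _ : (PicF.XT f (Over.mk s)).Over (Spec (CommRingCat.of Ω)) := ⟨PicF.XTproj f (Over.mk s)⟩
    have h1 := isIntegral_XT (f := f) s
    have h2 : IsProper (PicF.XT f (Over.mk s) ↘ Spec (CommRingCat.of Ω)) :=
      inferInstanceAs (IsProper (pullback.snd f s))
    let _ := Dcoh.MonPull.monPull (PicF.XTmap f a)
    let _ : ExactPairing (pl f a E) (pl f a E') :=
      Dcoh.MonDual.mapExactPairing (Scheme.Modules.pullback (PicF.XTmap f a)) E E'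
    have r1 : FlatMod.IsFinLocFreeOfRank r (pl f a E) := rank_pull _ hE.1
    have C := crv_XT (f := f) hdim s
    exact (K707.Semi.ss_iff C (K708.Dual.rank_dual r1 (pl f a E'))).1
      (K706.TensSS.ss_dual C (K707.Base.isFinLocFree_of_rank r1)
        ((K707.Semi.ss_iff C r1).2 (fibSS_iff.1 hE.2.2 Ω s a)) (pl f a E'))

end fam

section prod

variable {S : Scheme.{u}} {F₁ F₂ : ModFun.Problem.{u + 1} S} {M₁ M₂ : Over S} {φ₁ : F₁.Hom ⊤ M₁}
  {φ₂ : F₂.Hom ⊤ M₂}

/-- **`M₁ ⊗ M₂` corepresents the product of two universally corepresented problems.** -/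
theorem existsUnique_prod₂ (h₁ : UnivBest φ₁) (h₂ : UnivBest φ₂)
    (ok₁ : ∀ {T T' : Over S} (g : T' ⟶ T) (x : F₁.Fam T), F₁.ok T x → F₁.ok T' (F₁.pull g x))
    (ok₂ : ∀ {T T' : Over S} (g : T' ⟶ T) (x : F₂.Fam T), F₂.ok T x → F₂.ok T' (F₂.pull g x))
    (rid : ∀ {T : Over S} (x : F₁.Fam T), F₁.ok T x → F₁.r T (F₁.pull (𝟙 T) x) x)
    (rcomp : ∀ {T T' T'' : Over S} (g : T' ⟶ T) (g' : T'' ⟶ T') (x : F₁.Fam T), F₁.ok T x →
      F₁.r T'' (F₁.pull (g' ≫ g) x) (F₁.pull g' (F₁.pull g x)))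
    (rpull : ∀ {T T' : Over S} (g : T' ⟶ T) (x x' : F₁.Fam T), F₁.ok T x → F₁.ok T x' → F₁.r T x x' →
      F₁.r T' (F₁.pull g x) (F₁.pull g x'))
    {N : Over S} (ρ : ∀ (T : Over S) (x : F₁.Fam T) (y : F₂.Fam T), F₁.ok T x → F₂.ok T y → (T ⟶ N))
    (hnat : ∀ {T T' : Over S} (g : T' ⟶ T) (x : F₁.Fam T) (y : F₂.Fam T) (hx : F₁.ok T x) (hy : F₂.ok T y),
      ρ T' (F₁.pull g x) (F₂.pull g y) (ok₁ g x hx) (ok₂ g y hy) = g ≫ ρ T x y hx hy)
    (hr₁ : ∀ {T : Over S} (x x' : F₁.Fam T) (y : F₂.Fam T) (hx : F₁.ok T x) (hx' : F₁.ok T x') (hy : F₂.ok T y),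
      F₁.r T x x' → ρ T x y hx hy = ρ T x' y hx' hy)
    (hr₂ : ∀ {T : Over S} (x : F₁.Fam T) (y y' : F₂.Fam T) (hx : F₁.ok T x) (hy : F₂.ok T y) (hy' : F₂.ok T y'),
      F₂.r T y y' → ρ T x y hx hy = ρ T x y' hx hy') :
    ∃! q : M₁ ⊗ M₂ ⟶ N, ∀ (T : Over S) (x : F₁.Fam T) (y : F₂.Fam T) (hx : F₁.ok T x) (hy : F₂.ok T y),
      lift (φ₁.app T x trivial hx) (φ₂.app T y trivial hy) ≫ q = ρ T x y hx hy := by
  -- step 1: for a family `x` over `T`, a map `M₂ ⊗ T ⟶ N`
  have step1 : ∀ (T : Over S) (x : F₁.Fam T) (hx : F₁.ok T x), ∃! q : M₂ ⊗ T ⟶ N,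
      ∀ (T' : Over S) (y : F₂.Fam T') (hy : F₂.ok T' y) (b : T' ⟶ T),
        lift (φ₂.app T' y trivial hy) b ≫ q = ρ T' (F₁.pull b x) y (ok₁ b x hx) hy := by
    intro T x hx
    refine h₂.existsUnique_prod ok₂ T (N := N) (fun T' y hy b => ρ T' (F₁.pull b x) y (ok₁ b x hx) hy) ?_ ?_
    · intro T' T'' g y hy b
      rw [← hnat g (F₁.pull b x) y (ok₁ b x hx) hy]
      exact hr₁ _ _ _ _ _ _ (rcomp b g x hx)
    · intro T' y y' hy hy' b hr
      exact hr₂ _ _ _ _ _ _ hr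
  choose q hq hqu using step1
  obtain ⟨Q, hQ, hQu⟩ := h₁.existsUnique_prod ok₁ M₂ (N := N)
    (fun T x hx b => lift b (𝟙 T) ≫ q T x hx) (by
      intro T T' g x hx b
      -- compare the two maps `M₂ ⊗ T' ⟶ N`
      have e : q T' (F₁.pull g x) (ok₁ g x hx) = (M₂ ◁ g) ≫ q T x hx := by
        symm
        refine hqu T' (F₁.pull g x) (ok₁ g x hx) _ ?_
        intro T'' y hy b'
        have e1 : lift (φ₂.app T'' y trivial hy) b' ≫ M₂ ◁ g = lift (φ₂.app T'' y trivial hy) (b' ≫ g) := by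
          apply CartesianMonoidalCategory.hom_ext <;> simp
        change lift (φ₂.app T'' y trivial hy) b' ≫ (M₂ ◁ g ≫ q T x hx) = _
        rw [← Category.assoc, e1, hq T x hx]
        exact hr₁ _ _ _ _ _ _ (rcomp g b' x hx)
      change lift (g ≫ b) (𝟙 T') ≫ q T' (F₁.pull g x) (ok₁ g x hx) = g ≫ lift b (𝟙 T) ≫ q T x hx
      rw [e, ← Category.assoc, ← Category.assoc]
      congr 1
      apply CartesianMonoidalCategory.hom_ext <;> simp) (by
      intro T x x' hx hx' b hr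
      have e : q T x hx = q T x' hx' := by
        refine hqu T x' hx' _ ?_
        intro T' y hy b'
        rw [hq T x hx]
        exact hr₁ _ _ _ _ _ _ (rpull b' x x' hx hx' hr)
      change lift b (𝟙 T) ≫ q T x hx = lift b (𝟙 T) ≫ q T x' hx'
      rw [e])
  refine ⟨Q, fun T x y hx hy => ?_, fun Q' hQ' => hQu Q' fun T x hx b => ?_⟩
  · rw [hQ T x hx]
    rw [hq T x hx]
    exact hr₁ _ _ _ _ _ _ (rid x hx)
  · -- both sides are values on `b : T ⟶ M₂` of maps out of `M₂ ⊗ T`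
    have e : (lift (CartesianMonoidalCategory.snd M₂ T ≫ φ₁.app T x trivial hx)
        (CartesianMonoidalCategory.fst M₂ T) ≫ Q' : M₂ ⊗ T ⟶ N) = q T x hx := by
      refine hqu T x hx _ ?_
      intro T' y hy b'
      have e1 : lift (φ₂.app T' y trivial hy) b' ≫ lift (CartesianMonoidalCategory.snd M₂ T ≫ φ₁.app T x trivial hx)
          (CartesianMonoidalCategory.fst M₂ T) = lift (b' ≫ φ₁.app T x trivial hx) (φ₂.app T' y trivial hy) := by
        apply CartesianMonoidalCategory.hom_ext <;> simp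
      change lift (φ₂.app T' y trivial hy) b' ≫ (lift _ _ ≫ Q') = _
      rw [← Category.assoc, e1, ← φ₁.natural b' x trivial trivial hx (ok₁ b' x hx)]
      exact hQ' T' (F₁.pull b' x) y (ok₁ b' x hx) hy
    rw [← e, ← Category.assoc]
    congr 1
    apply CartesianMonoidalCategory.hom_ext <;> simp

end prod

section tens

variable {k : Type u} [Field k] [CharZero k] {X : Scheme.{u}} {f : X ⟶ Spec (CommRingCat.of k)}
  [IsProper f] [Smooth f] [GeometricallyConnected f]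

/-- **The tensor product morphism of moduli spaces.** -/
theorem exists_tens (hdim : topologicalKrullDim X = 1) {r m : ℕ} {M₁ M₂ M₃ : Over (Spec (CommRingCat.of k))}
    {φ₁ : (BunMod.USS f r 0).Hom ⊤ M₁} {φ₂ : (BunMod.USS f m 0).Hom ⊤ M₂} (φ₃ : (BunMod.USS f (r * m) 0).Hom ⊤ M₃)
    (h₁ : UnivBest φ₁) (h₂ : UnivBest φ₂) :
    ∃! τ : M₁ ⊗ M₂ ⟶ M₃, ∀ (T : Over (Spec (CommRingCat.of k))) (E F : (PicF.XT f T).Modules)
      (hE : (BunMod.USS f r 0).ok T E) (hF : (BunMod.USS f m 0).ok T F),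
      lift (φ₁.app T E trivial hE) (φ₂.app T F trivial hF) ≫ τ =
        φ₃.app T (CohB1.tensorMod E F) trivial ⟨trivial, ussOK_tens_zero hdim hE.2 hF.2⟩ := by
  refine existsUnique_prod₂ h₁ h₂ (fun g E hE => ⟨trivial, ussOK_pull g hE.2⟩)
    (fun g F hF => ⟨trivial, ussOK_pull g hF.2⟩) (fun E hE => r_of_iso f (pl_id f E))
    (fun g g' E hE => r_of_iso f (pl_comp f g g' E)) (fun g E E' hE hE' hr => r_pull g hr)
    (fun T E F hE hF => φ₃.app T (CohB1.tensorMod E F) trivial ⟨trivial, ussOK_tens_zero hdim hE.2 hF.2⟩) ?_ ?_ ?_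
  · intro T T' g E F hE hF
    refine Eq.trans ?_ (φ₃.natural g (CohB1.tensorMod E F) trivial trivial
      ⟨trivial, ussOK_tens_zero hdim hE.2 hF.2⟩ ⟨trivial, ussOK_pull g (ussOK_tens_zero hdim hE.2 hF.2)⟩)
    exact φ₃.resp _ _ trivial _ _ (r_of_iso f ((pl_tens f g E F).map Iso.symm))
  · intro T E E' F hE hE' hF hr
    exact φ₃.resp _ _ trivial _ _ (r_tens hr F)
  · intro T E F F' hE hF hF' hr
    exact φ₃.resp _ _ trivial _ _ (r_tens' hr E)

/-- The same in terms of the frozen predicate. -/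
theorem exists_isBinOpMap (hdim : topologicalKrullDim X = 1) {r m : ℕ} {M₁ M₂ M₃ : Over (Spec (CommRingCat.of k))}
    {φ₁ : (BunMod.USS f r 0).Hom ⊤ M₁} {φ₂ : (BunMod.USS f m 0).Hom ⊤ M₂} (φ₃ : (BunMod.USS f (r * m) 0).Hom ⊤ M₃)
    (h₁ : UnivBest φ₁) (h₂ : UnivBest φ₂) :
    ∃ τ : M₁ ⊗ M₂ ⟶ M₃, Jac.IsBinOpMap φ₁ φ₂ φ₃ (Jac.tensorRel f) τ := by
  obtain ⟨τ, hτ, -⟩ := exists_tens hdim φ₃ h₁ h₂
  refine ⟨τ, fun T E F _ hE hF => ?_, fun T p G _ hp hG hr => ?_⟩
  · exact ⟨CohB1.tensorMod E F, ⟨trivial, ussOK_tens_zero hdim hE.2 hF.2⟩, ⟨Iso.refl _⟩⟩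
  · change φ₃.app T G _ hG = lift (φ₁.app T p.1 trivial hp.1) (φ₂.app T p.2 trivial hp.2) ≫ τ
    rw [hτ T p.1 p.2 hp.1 hp.2]
    exact φ₃.resp _ _ trivial _ _ (r_of_iso f hr)

end tens

end K706.TensFam
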