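import Groth.Agent.VBCurve.K708.DualDeg
import Groth.Agent.BunMod.K319.Dsum

/-!
# The determinant of the dual of a vector bundle on a curve

`det E · det E^∨ = 1` in the Picard group, for a bundle `E` on a curve over a field.
-/

set_option autoImplicit false
set_option linter.unusedSectionVars false
universe u

open CategoryTheory CategoryTheory.Limits AlgebraicGeometry MonoidalCategory

namespace K706.DetDual

open Groth.Agent Groth.Agent.VarietyA.DegRank K707.Base K707.Deg K707.Slope K707.Semi K707.TensL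
open K708.PtTwist Groth.Agent.Krr.H492.DualK Groth.Agent.Grpsch
open K451.DetPic (det det_one det_congr det_extension rank_of_iso)
open scoped Groth.Agent.Dcoh.MonCat

variable {k : Type u} [Field k] {X : Scheme.{u}} [X.Over (Spec (CommRingCat.of k))]
  [IsIntegral X] [IsProper (X ↘ (Spec (CommRingCat.of k)))]

theorem mk_mul_mk_dl {L : X.Modules} (hL : PicF.IsInvertible L) (hd : PicF.IsInvertible (dl L)) :
    PicGrp.mk L hL * PicGrp.mk (dl L) hd = 1 := by
  have e : CohB1.tensorMod L (dl L) ≅ Coh.structureModule X :=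
    @asIso _ _ _ _ (Grpsch.PicGrp.ev L) (Grpsch.PicGrp.isIso_ev hL)
  rw [PicGrp.mk_mul_mk, PicGrp.one_def]
  exact (PicGrp.mk_eq_iff _ _).2 ⟨e⟩

theorem det_mul_dl (C : Crv k X) (n : ℕ) : ∀ (E : X.Modules) (hE : FlatMod.IsFinLocFreeOfRank (n + 1) E)
    (hE' : FlatMod.IsFinLocFreeOfRank (n + 1) (dl E)), det (n + 1) E hE * det (n + 1) (dl E) hE' = 1 := by
  induction n with
  | zero =>
    intro E hE hE'
    rw [det_one hE (rank_one_iff.1 hE), det_one hE' (rank_one_iff.1 hE')]
    exact mk_mul_mk_dl _ _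
  | succ n ih =>
    intro E hE hE'
    have hrk : rk E = n + 2 := rk_of_rank hE
    obtain ⟨S, hS, rfl, h1, h3, hr, -⟩ := exists_line_sub C (isFinLocFree_of_rank hE) (by omega)
    have hS' := K708.DualDeg.dl_shortExact hS (vb_of_inv h1) (isFinLocFree_of_rank hE) h3
    have h3r : FlatMod.IsFinLocFreeOfRank (n + 1) S.X₃ := by
      have := isFinLocFreeOfRank_rk h3
      have e : rk S.X₃ = n + 1 := by omega
      rwa [e] at this
    have h1r : FlatMod.IsFinLocFreeOfRank 1 S.X₁ := rank_one_iff.2 h1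
    have hd1 : PicF.IsInvertible (dl S.X₁) := Grpsch.PicGrp.isInvertible_dual h1
    have hd3 : FlatMod.IsFinLocFreeOfRank (n + 1) (dl S.X₃) := by
      have h4 := isFinLocFreeOfRank_rk (isFinLocFree_dl h3)
      rwa [K708.DualDeg.rk_dl C h3, rk_of_rank h3r] at h4
    have e1 := det_extension hS h1r h3r
    have e2 : det (n + 1 + 1) (dl S.X₂) hE' = det (n + 1) (dl S.X₃) hd3 * det 1 (dl S.X₁) (rank_one_iff.2 hd1) :=
      det_extension hS' hd3 (rank_one_iff.2 hd1)
    rw [← det_congr hE _ (by omega) (Iso.refl _)] at e1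
    rw [e1, e2, det_one h1r h1, det_one _ hd1]
    calc PicGrp.mk S.X₁ h1 * det (n + 1) S.X₃ h3r * (det (n + 1) (dl S.X₃) hd3 * PicGrp.mk (dl S.X₁) hd1) =
        (PicGrp.mk S.X₁ h1 * PicGrp.mk (dl S.X₁) hd1) * (det (n + 1) S.X₃ h3r * det (n + 1) (dl S.X₃) hd3) := by
          ac_rfl
      _ = 1 := by rw [ih S.X₃ h3r hd3, mk_mul_mk_dl, one_mul]

/-- The dual of a bundle of rank `r` is a bundle of rank `r`. -/
theorem rank_dual (C : Crv k X) {r : ℕ} {E : X.Modules} (hE : FlatMod.IsFinLocFreeOfRank r E) (E' : X.Modules)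
    [ExactPairing E E'] : FlatMod.IsFinLocFreeOfRank r E' := by
  have hE'v : FlatMod.IsFinLocFree E' :=
    vb_iso (K708.DualDeg.dualIso E E').symm (isFinLocFree_dl (isFinLocFree_of_rank hE))
  have h1 := isFinLocFreeOfRank_rk hE'v
  rwa [K708.DualDeg.rk_dual C (isFinLocFree_of_rank hE) E', rk_of_rank hE] at h1

theorem deg_dual (C : Crv k X) {r : ℕ} {E : X.Modules} (hE : FlatMod.IsFinLocFreeOfRank r E) (E' : X.Modules)
    [ExactPairing E E'] : Curv2.deg k X E' r = - Curv2.deg k X E r := by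
  rw [← dg_of_rank k (rank_dual C hE E'), K708.DualDeg.dg_dual C (isFinLocFree_of_rank hE) E', dg_of_rank k hE]

/-- `det E · det E^∨ = 1`. -/
theorem det_mul_det_dual (C : Crv k X) {r : ℕ} (hr : 1 ≤ r) {E : X.Modules} (hE : FlatMod.IsFinLocFreeOfRank r E)
    (E' : X.Modules) [ExactPairing E E'] : det r E hE * det r E' (rank_dual C hE E') = 1 := by
  obtain ⟨n, rfl⟩ : ∃ n, r = n + 1 := ⟨r - 1, by omega⟩
  have e := K708.DualDeg.dualIso E E'
  have h1 : FlatMod.IsFinLocFreeOfRank (n + 1) (dl E) := rank_of_iso e (rank_dual C hE E')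
  rw [det_congr (rank_dual C hE E') h1 rfl e]
  exact det_mul_dl C n E hE h1

end K706.DetDual
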