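import Groth.Agent.BunMod.K706.XiPair
import Groth.Agent.BunMod.K706.DetDual
import Groth.Agent.BunMod.K319.SemiZero
import Groth.Agent.BunMod.K319.Dsum
import Groth.Agent.BunMod.K757.DetM0

/-!
# The seed pair `(E₀, F₀)` with prescribed determinant

`X` a smooth proper geometrically connected curve over an algebraically closed field, `N` invertible of degree
`g - 1`, `E₀` a bundle of rank `r ≥ 1` and degree `0` with `H⁰(E₀ ⊗ N) = 0`, `D₀` invertible of degree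
`m (g - 1)`, `m ≥ 2`: there is `F₀ = O^(m-2) ⊕ ξ ⊕ ξ'` semistable of rank `m` and degree `0` with
`H⁰(E₀ ⊗ F₀ ⊗ N) = 0 = H¹(E₀ ⊗ F₀ ⊗ N)` and `det F₀ ⊗ N^m ≅ D₀ ⊗ det E₀`, so that
`V₀ = E₀^∨ ⊕ F₀ ⊗ N` has determinant `D₀`.
-/

set_option autoImplicit false
set_option linter.unusedSectionVars false
universe u
open CategoryTheory CategoryTheory.Limits AlgebraicGeometry MonoidalCategory

namespace K706.Pair0

open Groth.Agent K707.Base K707.Deg K707.Slope K707.Semi K707.TensL K706.Xi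
open Groth.Agent.VarietyA.DegRank Groth.Agent.Grpsch
open K319.Dsum (ds)
open K451.DetPic (det)
open scoped Groth.Agent.Dcoh.MonCat

section general

variable {X : Scheme.{u}}

/-- `H⁰(A ⊕ B) = 0`. -/
theorem sub_biprod {A B : X.Modules} (hA : Subsingleton (Coh.HH X A 0)) (hB : Subsingleton (Coh.HH X B 0)) :
    Subsingleton (Coh.HH X (A ⊞ B) 0) := by
  rw [← K708.HomH0.forall_unit_hom_eq_zero_iff] at hA hB ⊢
  intro φ
  refine biprod.hom_ext _ _ ?_ ?_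
  · rw [zero_comp]; exact hA _
  · rw [zero_comp]; exact hB _

/-- `E ⊗ (A ⊕ B) ⊗ N`. -/
theorem nonempty_dist (E A B N : X.Modules) :
    Nonempty (CohB1.tensorMod (CohB1.tensorMod E (A ⊞ B)) N ≅
      CohB1.tensorMod (CohB1.tensorMod E A) N ⊞ CohB1.tensorMod (CohB1.tensorMod E B) N) := by
  have e1 : CohB1.tensorMod E (A ⊞ B) ≅ CohB1.tensorMod E A ⊞ CohB1.tensorMod E B :=
    ASBun.K791.Tens.tensComm _ _ ≪≫ ASBun.K791.Dual.biprodTens A B E ≪≫
      biprod.mapIso (ASBun.K791.Tens.tensComm _ _) (ASBun.K791.Tens.tensComm _ _)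
  exact ⟨ASBun.K791.Tens.tensMap e1 (Iso.refl N) ≪≫ ASBun.K791.Dual.biprodTens _ _ _⟩

theorem z_biprod {E A B N : X.Modules}
    (hA : Subsingleton (Coh.HH X (CohB1.tensorMod (CohB1.tensorMod E A) N) 0))
    (hB : Subsingleton (Coh.HH X (CohB1.tensorMod (CohB1.tensorMod E B) N) 0)) :
    Subsingleton (Coh.HH X (CohB1.tensorMod (CohB1.tensorMod E (A ⊞ B)) N) 0) := by
  obtain ⟨e⟩ := nonempty_dist E A B N
  exact K708.HomH0.subsingleton_HH_iso e.symm (sub_biprod hA hB)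

theorem z_ds {E A B N : X.Modules}
    (hA : Subsingleton (Coh.HH X (CohB1.tensorMod (CohB1.tensorMod E A) N) 0))
    (hB : Subsingleton (Coh.HH X (CohB1.tensorMod (CohB1.tensorMod E B) N) 0)) (n : ℕ) :
    Subsingleton (Coh.HH X (CohB1.tensorMod (CohB1.tensorMod E (ds A B n)) N) 0) := by
  induction n with
  | zero => exact hA
  | succ n ih => exact z_biprod ih hB

/-- The determinant of `A ⊕ O^n`. -/
theorem det_ds {A : X.Modules} {a : ℕ} (hA : FlatMod.IsFinLocFreeOfRank a A) (n : ℕ)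
    (h : FlatMod.IsFinLocFreeOfRank (a + n) (ds A (Coh.structureModule X) n)) :
    det (a + n) (ds A (Coh.structureModule X) n) h = det a A hA := by
  induction n with
  | zero => rfl
  | succ n ih =>
    have h0 : FlatMod.IsFinLocFreeOfRank (a + n) (ds A (Coh.structureModule X) n) := by
      have := K319.Dsum.rank_ds hA (K319.Dsum.rank_one (Y := X)) n
      rwa [mul_one] at this
    have h1 := K319.Dsum.det_biprod h0 (K319.Dsum.rank_one (Y := X)) h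
    rw [K451.DetPic.det_one _ Groth.Agent.Fdesc.LocGen.isInvertible_structureModule, ← PicGrp.one_def, mul_one,
      ih h0] at h1
    exact h1

theorem mk_pow {L : X.Modules} (hL : PicF.IsInvertible L) (n : ℕ) :
    PicGrp.mk (CohB1.tensorPow L n) (K757.DetM0.inv_pow hL n) = PicGrp.mk L hL ^ n := by
  induction n with
  | zero => rfl
  | succ n ih =>
    rw [pow_succ, ← ih]
    rfl

end general

section field

variable {k : Type u} [Field k] {X : Scheme.{u}} [X.Over (Spec (CommRingCat.of k))]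
  [IsIntegral X] [IsProper (X ↘ Spec (CommRingCat.of k))]

theorem deg_pow [IsAlgClosed k] [Smooth (X ↘ Spec (CommRingCat.of k))] (cC : Crv k X) {L : X.Modules} (hL : PicF.IsInvertible L) (n : ℕ) :
    Curv2.deg k X (CohB1.tensorPow L n) 1 = n * Curv2.deg k X L 1 := by
  induction n with
  | zero =>
    rw [show CohB1.tensorPow L 0 = Coh.structureModule X from rfl, K703.Chi.deg_structure k]
    simp
  | succ n ih =>
    rw [show CohB1.tensorPow L (n + 1) = CohB1.tensorMod (CohB1.tensorPow L n) L from rfl,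
      deg_tw1 cC (K757.DetM0.inv_pow hL n) hL, ih]
    push_cast
    ring

theorem deg_biprod {A B : X.Modules} {a b : ℕ} (hA : FlatMod.IsFinLocFreeOfRank a A)
    (hB : FlatMod.IsFinLocFreeOfRank b B) :
    Curv2.deg k X (A ⊞ B) (a + b) = Curv2.deg k X A a + Curv2.deg k X B b := by
  have hAB := Groth.Agent.Krr.H495.Rank.rank_biprod hA hB
  have h := dg_add k _ (K319.SemiZero.shortExact_biprod A B) (isCoh_of_rank hA) (isCoh_of_rank hAB) (isCoh_of_rank hB)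
  have h' : dg k (A ⊞ B) = dg k A + dg k B := h
  rwa [dg_of_rank k hAB, dg_of_rank k hA, dg_of_rank k hB] at h'

/-- `A ⊕ O^n` is semistable of degree zero. -/
theorem ss_ds (cC : Crv k X) {A : X.Modules} {a : ℕ} (hA : FlatMod.IsFinLocFreeOfRank a A)
    (hd : Curv2.deg k X A a = 0) (hs : ModFun.IsSlopeSemistable k X A a) (n : ℕ) :
    FlatMod.IsFinLocFreeOfRank (a + n) (ds A (Coh.structureModule X) n) ∧
      Curv2.deg k X (ds A (Coh.structureModule X) n) (a + n) = 0 ∧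
      ModFun.IsSlopeSemistable k X (ds A (Coh.structureModule X) n) (a + n) := by
  induction n with
  | zero => exact ⟨hA, hd, hs⟩
  | succ n ih =>
    have h := K319.SemiZero.ss_biprod cC ih.1 (K319.Dsum.rank_one (Y := X)) ih.2.1 (K703.Chi.deg_structure k)
      ih.2.2 (K319.SemiZero.ss_inv cC K319.Dsum.rank_one)
    exact h

end field

section main

variable {k : Type u} [Field k] [IsAlgClosed k] {X : Scheme.{u}} [X.Over (Spec (CommRingCat.of k))]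
  [IsIntegral X] [IsProper (X ↘ Spec (CommRingCat.of k))] [Smooth (X ↘ Spec (CommRingCat.of k))]
  (hdim : topologicalKrullDim X = 1)

include hdim in
/-- **The pair `(E₀, F₀)`**, `X` integral. -/
theorem exists_pair_int {N : X.Modules} (hN : PicF.IsInvertible N)
    (hNd : Curv2.deg k X N 1 = (Curv2.genus k X : ℤ) - 1) {r m : ℕ} (hr : 1 ≤ r) (hm : 2 ≤ m) {E₀ : X.Modules}
    (hE₀ : FlatMod.IsFinLocFreeOfRank r E₀) (hd : Curv2.deg k X E₀ r = 0)
    (h0 : Subsingleton (Coh.HH X (CohB1.tensorMod E₀ N) 0)) {D₀ : X.Modules} (hD₀ : PicF.IsInvertible D₀)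
    (hD₀d : Curv2.deg k X D₀ 1 = m * ((Curv2.genus k X : ℤ) - 1)) :
    ∃ F₀ δ dE : X.Modules, FlatMod.IsFinLocFreeOfRank m F₀ ∧ Curv2.deg k X F₀ m = 0 ∧
      ModFun.IsSlopeSemistable k X F₀ m ∧ PicF.IsInvertible δ ∧ ExtPow.IsExtPow m F₀ δ ∧
      PicF.IsInvertible dE ∧ ExtPow.IsExtPow r E₀ dE ∧
      Nonempty (CohB1.tensorMod δ (CohB1.tensorPow N m) ≅ CohB1.tensorMod D₀ dE) ∧
      Subsingleton (Coh.HH X (CohB1.tensorMod (CohB1.tensorMod E₀ F₀) N) 0) ∧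
      Subsingleton (Coh.HH X (CohB1.tensorMod (CohB1.tensorMod E₀ F₀) N) 1) ∧
      ∀ (E₀' : X.Modules) [ExactPairing E₀ E₀'],
        FlatMod.IsFinLocFreeOfRank (r + m) (E₀' ⊞ CohB1.tensorMod F₀ N) ∧
        Curv2.deg k X (E₀' ⊞ CohB1.tensorMod F₀ N) (r + m) = m * ((Curv2.genus k X : ℤ) - 1) ∧
        ExtPow.IsExtPow (r + m) (E₀' ⊞ CohB1.tensorMod F₀ N) D₀ ∧
        (∀ φ : E₀' ⟶ CohB1.tensorMod F₀ N, φ = 0) ∧
        Subsingleton (Coh.HH X (CohB1.tensorMod (CohB1.tensorMod F₀ N) E₀) 0) ∧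
        Subsingleton (Coh.HH X (CohB1.tensorMod (CohB1.tensorMod F₀ N) E₀) 1) := by
  have cC : Crv k X := Crv.of_smooth hdim
  obtain ⟨n, rfl⟩ : ∃ n, m = 2 + n := ⟨m - 2, by omega⟩
  obtain ⟨dE, hdE, hdE'⟩ := K757.DetM0.exists_det hE₀
  have hdEd : Curv2.deg k X dE 1 = 0 := by
    rw [← S7638.result k X cC.dim.le r E₀ hE₀ dE hdE', hd]
  have hNm := K757.DetM0.inv_pow hN (2 + n)
  obtain ⟨Nm, hNmi, eNm⟩ := Grpsch.PicGrp.exists_inverse hNm
  have hNmd := deg_inv cC hNm hNmi eNm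
  rw [deg_pow cC hN, hNd] at hNmd
  have sNm := sk_iff.1 eNm
  rw [sk_tens, sk_unit] at sNm
  -- the determinant of `F₀`
  have h1 : PicF.IsInvertible (CohB1.tensorMod D₀ dE) := Fdesc.LocGen.isInvertible_tensorMod hD₀ hdE
  have hδ : PicF.IsInvertible (CohB1.tensorMod (CohB1.tensorMod D₀ dE) Nm) :=
    Fdesc.LocGen.isInvertible_tensorMod h1 hNmi
  have hδd : Curv2.deg k X (CohB1.tensorMod (CohB1.tensorMod D₀ dE) Nm) 1 = 0 := by
    rw [deg_tw1 cC h1 hNmi, deg_tw1 cC hD₀ hdE, hD₀d, hdEd, hNmd]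
    ring
  obtain ⟨ξ, ξ', hξ, hξd, hξ', hξ'd, ⟨eδ⟩, z1, z2⟩ := exists_xi_int hdim hN hNd hE₀ hd h0 hδ hδd
  have r1 : FlatMod.IsFinLocFreeOfRank 1 ξ := rank_one_iff.2 hξ
  have r2 : FlatMod.IsFinLocFreeOfRank 1 ξ' := rank_one_iff.2 hξ'
  obtain ⟨a1, a2, a3⟩ := K319.SemiZero.ss_biprod cC r1 r2 hξd hξ'd (K319.SemiZero.ss_inv cC r1)
    (K319.SemiZero.ss_inv cC r2)
  obtain ⟨b1, b2, b3⟩ := ss_ds cC (a := 2) a1 a2 a3 n
  set F₀ : X.Modules := ds (ξ ⊞ ξ') (Coh.structureModule X) n with hF₀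
  -- its determinant
  have hdetF : det (2 + n) F₀ b1 = PicGrp.mk _ hδ := by
    have e1 := K319.Dsum.det_biprod r1 r2 a1
    rw [K451.DetPic.det_one r1 hξ, K451.DetPic.det_one r2 hξ', PicGrp.mk_mul_mk] at e1
    have e2 : det 2 (ξ ⊞ ξ') a1 = PicGrp.mk _ hδ := e1.trans ((PicGrp.mk_eq_iff _ _).2 ⟨eδ⟩)
    rw [← e2]
    exact det_ds a1 n b1
  have hextF : ExtPow.IsExtPow (2 + n) F₀ (CohB1.tensorMod (CohB1.tensorMod D₀ dE) Nm) := by
    obtain ⟨D', hD'i, hD'⟩ := K757.DetM0.exists_det b1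
    have e1 := K451.DetPic.mk_eq_det b1 hD' hD'i
    rw [hdetF, PicGrp.mk_eq_iff] at e1
    exact K757.DetM0.det_iso hD' e1
  have hdetE : det r E₀ hE₀ = PicGrp.mk dE hdE := (K451.DetPic.mk_eq_det hE₀ hdE' hdE).symm
  -- vanishing
  have z0 : Subsingleton (Coh.HH X (CohB1.tensorMod (CohB1.tensorMod E₀ F₀) N) 0) :=
    z_ds (z_biprod z1 z2) (sub_congr (by simp only [sk_tens, sk_unit, mul_one]) 0 h0) n
  have rEF : FlatMod.IsFinLocFreeOfRank (r * (2 + n)) (CohB1.tensorMod E₀ F₀) := rank_tens hE₀ b1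
  have dEF : Curv2.deg k X (CohB1.tensorMod E₀ F₀) (r * (2 + n)) = 0 := by
    rw [← dg_of_rank k rEF, dg_tensor k hdim b1 (isCoh_of_rank hE₀), dg_of_rank k hE₀, dg_of_rank k b1, hd, b2]
    ring
  have z0' : Subsingleton (Coh.HH X (CohB1.tensorMod (CohB1.tensorMod E₀ F₀) N) 1) := by
    refine (h01_iff (k := k) hdim (K757.Geo.rank_tw cC rEF hN) ?_).1 z0
    rw [K757.Geo.deg_tw cC rEF hN, dEF, hNd]
    ring
  refine ⟨F₀, _, dE, b1, b2, b3, hδ, hextF, hdE, hdE', ?_, z0, z0', ?_⟩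
  · rw [sk_iff]
    simp only [sk_tens]
    rw [mul_assoc, mul_comm (toSkeleton Nm), sNm, mul_one]
  · intro E₀' _
    have rE' := K706.DetDual.rank_dual cC hE₀ E₀'
    have dE' := K706.DetDual.deg_dual cC hE₀ E₀'
    rw [hd, neg_zero] at dE'
    have rFN := K757.Geo.rank_tw cC b1 hN
    have rV := Groth.Agent.Krr.H495.Rank.rank_biprod rE' rFN
    have zV : Subsingleton (Coh.HH X (CohB1.tensorMod (CohB1.tensorMod F₀ N) E₀) 0) :=
      sub_congr (by simp only [sk_tens]; ac_rfl) 0 z0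
    refine ⟨rV, ?_, ?_, ?_, zV, sub_congr (by simp only [sk_tens]; ac_rfl) 1 z0'⟩
    · rw [deg_biprod rE' rFN, dE', K757.Geo.deg_tw cC b1 hN, b2, hNd]
      ring
    · obtain ⟨D', hD'i, hD'⟩ := K757.DetM0.exists_det rV
      have e1 := K451.DetPic.mk_eq_det rV hD' hD'i
      have e2 := K319.Dsum.det_biprod rE' rFN rV
      have e3 : det (2 + n) (CohB1.tensorMod F₀ N) rFN = PicGrp.mk _ hδ * PicGrp.mk N hN ^ (2 + n) := by
        have e4 := K451.DetPic.mk_eq_det rFN (K757.DetM0.det_tens b1 hN hextF)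
          (Fdesc.LocGen.isInvertible_tensorMod hδ hNm)
        rw [← e4, ← PicGrp.mk_mul_mk hδ hNm, mk_pow hN]
      have e5 := K706.DetDual.det_mul_det_dual cC hr hE₀ E₀'
      rw [← e1, e3, ← PicGrp.mk_mul_mk h1 hNmi, ← PicGrp.mk_mul_mk hD₀ hdE, ← hdetE] at e2
      have e6 : PicGrp.mk N hN ^ (2 + n) * PicGrp.mk Nm hNmi = 1 := by
        rw [← mk_pow hN, PicGrp.mk_mul_mk hNm hNmi, PicGrp.one_def]
        exact (PicGrp.mk_eq_iff _ _).2 eNm
      have e7 : PicGrp.mk D' hD'i = PicGrp.mk D₀ hD₀ := by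
        rw [e2]
        calc det r E₀' rE' * (PicGrp.mk D₀ hD₀ * det r E₀ hE₀ * PicGrp.mk Nm hNmi * PicGrp.mk N hN ^ (2 + n)) =
            PicGrp.mk D₀ hD₀ * (det r E₀ hE₀ * det r E₀' rE') * (PicGrp.mk N hN ^ (2 + n) * PicGrp.mk Nm hNmi) := by
              ac_rfl
          _ = PicGrp.mk D₀ hD₀ := by rw [e5, e6, mul_one, mul_one]
      exact K757.DetM0.det_iso hD' ((PicGrp.mk_eq_iff _ _).1 e7)
    · have _ : ExactPairing E₀' E₀ := BraidedCategory.exactPairing_swap E₀ E₀'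
      exact (K708.HomH0.forall_hom_eq_zero_iff E₀' E₀ (CohB1.tensorMod F₀ N)).2 zV

end main

/-- **The pair `(E₀, F₀)`**, form for a geometrically connected curve of genus `g`: `F₀` is semistable of rank
`m ≥ 2` and degree `0`, `det F₀ ⊗ N^m ≅ D₀ ⊗ det E₀`, `H⁰(E₀ ⊗ F₀ ⊗ N) = 0 = H¹(E₀ ⊗ F₀ ⊗ N)`, and
`V₀ = E₀^∨ ⊕ F₀ ⊗ N` has rank `r + m`, degree `m (g - 1)` and determinant `D₀`; no nonzero maps
`E₀^∨ ⟶ F₀ ⊗ N`. -/
theorem exists_pair (k : Type u) [Field k] [IsAlgClosed k] (X : Scheme.{u}) [X.Over (Spec (CommRingCat.of k))]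
    [IsProper (X ↘ Spec (CommRingCat.of k))] [Smooth (X ↘ Spec (CommRingCat.of k))]
    [GeometricallyConnected (X ↘ Spec (CommRingCat.of k))] (hdim : topologicalKrullDim ↥X = 1)
    (g : ℕ) (hg : Curv2.genus k X = g) {N : X.Modules} (hN : PicF.IsInvertible N)
    (hNd : Curv2.deg k X N 1 = (g : ℤ) - 1) {r m : ℕ} (hr : 1 ≤ r) (hm : 2 ≤ m) (E₀ : X.Modules)
    (hE₀ : FlatMod.IsFinLocFreeOfRank r E₀) (hd : Curv2.deg k X E₀ r = 0)
    (h0 : Subsingleton (Coh.HH X (CohB1.tensorMod E₀ N) 0)) (D₀ : X.Modules) (hD₀ : PicF.IsInvertible D₀)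
    (hD₀d : Curv2.deg k X D₀ 1 = m * ((g : ℤ) - 1)) :
    ∃ F₀ δ dE : X.Modules, FlatMod.IsFinLocFreeOfRank m F₀ ∧ Curv2.deg k X F₀ m = 0 ∧
      ModFun.IsSlopeSemistable k X F₀ m ∧ PicF.IsInvertible δ ∧ ExtPow.IsExtPow m F₀ δ ∧
      PicF.IsInvertible dE ∧ ExtPow.IsExtPow r E₀ dE ∧
      Nonempty (CohB1.tensorMod δ (CohB1.tensorPow N m) ≅ CohB1.tensorMod D₀ dE) ∧
      Subsingleton (Coh.HH X (CohB1.tensorMod (CohB1.tensorMod E₀ F₀) N) 0) ∧
      Subsingleton (Coh.HH X (CohB1.tensorMod (CohB1.tensorMod E₀ F₀) N) 1) ∧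
      ∀ (E₀' : X.Modules) [ExactPairing E₀ E₀'],
        FlatMod.IsFinLocFreeOfRank (r + m) (E₀' ⊞ CohB1.tensorMod F₀ N) ∧
        Curv2.deg k X (E₀' ⊞ CohB1.tensorMod F₀ N) (r + m) = m * ((g : ℤ) - 1) ∧
        ExtPow.IsExtPow (r + m) (E₀' ⊞ CohB1.tensorMod F₀ N) D₀ ∧
        (∀ φ : E₀' ⟶ CohB1.tensorMod F₀ N, φ = 0) ∧
        Subsingleton (Coh.HH X (CohB1.tensorMod (CohB1.tensorMod F₀ N) E₀) 0) ∧
        Subsingleton (Coh.HH X (CohB1.tensorMod (CohB1.tensorMod F₀ N) E₀) 1) := by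
  subst hg
  have := K705.Setup.isIntegral_of_geomConn k X
  exact exists_pair_int hdim hN hNd hr hm hE₀ hd h0 hD₀ hD₀d

end K706.Pair0
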