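import Groth.Agent.VBCurve.K784.SubSemi
import Groth.Agent.VBCurve.K52.SubDiv
import Groth.Agent.VBCurve.K226.Pow
import Groth.Agent.VBCurve.K708.HomH0
import Groth.Agent.VBCurve.K708.PtTwist
import Groth.Agent.VBCurve.K708.DualDeg
import Groth.Agent.VBCurve.K703.Duality
import Groth.Agent.VBCurve.K703.Chi
import Groth.Agent.ShStab.K846.SSOpen
import Groth.Agent.BunMod.K757.Geo

/-!
# Two open conditions on `Pic⁰` of a curve are simultaneously satisfied

`X` a smooth proper integral curve over an algebraically closed field, `F₁`, `F₂` vector bundles, `ξ₁`, `ξ₂`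
invertible modules of degree zero with `H¹(F₁ ⊗ ξ₁) = 0 = H¹(F₂ ⊗ ξ₂)`: then there is one `ξ` of degree zero with
`H¹(F₁ ⊗ ξ) = 0 = H¹(F₂ ⊗ ξ)` (`exists_common`).  `exists_xi`: the version with `ξ ⊗ ξ' ≅ δ`.
-/

set_option autoImplicit false
set_option linter.unusedSectionVars false
universe u
open CategoryTheory CategoryTheory.Limits AlgebraicGeometry MonoidalCategory

namespace K706.Xi

open Groth.Agent K553.Sub K784.SubSemi K707.Base K707.Deg K707.Slope K707.Semi K707.TensL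
open Groth.Agent.VarietyA.DegRank
open scoped Groth.Agent.Dcoh.MonCat

section opens

variable {k : Type u} [Field k] {C T : Over (Spec (CommRingCat.of k))} [IsProper C.hom] [Flat C.hom]

/-- The rational points `t` of `T` with `H¹(C, (sl t)^* F) = 0`, `F` a bundle on `T × C`. -/
theorem exists_open [LocallyOfFiniteType T.hom] (F : (TX C T).left.Modules) {n : ℕ}
    (hF : FlatMod.IsFinLocFreeOfRank n F) :
    ∃ U : T.left.Opens, ∀ t : pt (Spec (CommRingCat.of k)) ⟶ T,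
      (atp t ∈ U ↔ Subsingleton (Coh.HH C.left ((Scheme.Modules.pullback (sl t).left).obj F) 1)) := by
  have hN : IsLocallyNoetherian T.left := LocallyOfFiniteType.isLocallyNoetherian T.hom
  have hcoh : Coh.IsCoh F := isCoh_of_rank hF
  have hfl : FlatMod.IsFlatOver (pr C T).left F := K846.SSOpen.isFlatOver_of_rank (pr C T).left hF
  refine ⟨⟨_, K527.FibreVan.isOpen_van (pr C T).left F hcoh hfl 1⟩, fun t => ?_⟩
  exact K527.FibreVan.fiberH_iff (pr C T).left F hcoh.1 t.left (sl (C := C) t).left C.hom (isPullback_sl t) 0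

end opens

section field

variable {k : Type u} [Field k] [IsAlgClosed k] (C : Over (Spec (CommRingCat.of k)))
  [IsIntegral C.left] [IsProper C.hom] [Smooth C.hom] (hdim : topologicalKrullDim C.left = 1)

theorem rank_tens {Y : Scheme.{u}} {r m : ℕ} {E F : Y.Modules} (hE : FlatMod.IsFinLocFreeOfRank r E)
    (hF : FlatMod.IsFinLocFreeOfRank m F) : FlatMod.IsFinLocFreeOfRank (r * m) (CohB1.tensorMod E F) :=
  Krr.H487.KerRank.isFinLocFreeOfRank_tensor hE hF

theorem nonempty_pull_id {Y : Scheme.{u}} {f : Y ⟶ Y} (hf : f = 𝟙 Y) (M : Y.Modules) :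
    Nonempty ((Scheme.Modules.pullback f).obj M ≅ M) := by
  subst hf
  exact ⟨(Scheme.Modules.pullbackId Y).app M⟩

/-- The slices of `F ⊗ M(-∑ graphs)`. -/
theorem nonempty_slice (n : ℕ) (F M : C.left.Modules) (t : pt (Spec (CommRingCat.of k)) ⟶ Pw C n) :
    Nonempty ((Scheme.Modules.pullback (sl (C := C) t).left).obj (CohB1.tensorMod
      ((Scheme.Modules.pullback (qr C (Pw C n)).left).obj F)
      (tw M (up (List.ofFn (crd C n)).reverse) (qr C (Pw C n)))) ≅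
      CohB1.tensorMod F (twp M (pts fun i => t ≫ crd C n i))) := by
  obtain ⟨e, -⟩ := nonempty_tw_pull (sl (C := C) t) M (up (List.ofFn (crd C n)).reverse) (qr C (Pw C n))
  have h1 : (up (List.ofFn (crd C n)).reverse).map (fun z => sl (C := C) t ≫ z) =
      (pts fun i => t ≫ crd C n i).map cst := by
    unfold up pts
    rw [List.map_map, List.map_reverse, List.map_reverse, List.map_ofFn, List.map_ofFn]
    refine congrArg (fun f => (List.ofFn f).reverse) (funext fun i => ?_)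
    simp only [Function.comp_apply, sl_pr_assoc, cst]
  have h2 : tw M ((up (List.ofFn (crd C n)).reverse).map fun z => sl (C := C) t ≫ z)
      (sl (C := C) t ≫ qr C (Pw C n)) = twp M (pts fun i => t ≫ crd C n i) := by
    rw [h1, sl_qr]
    rfl
  rw [h2] at e
  obtain ⟨e1⟩ := K757.Fam.pull_tens (sl (C := C) t).left ((Scheme.Modules.pullback (qr C (Pw C n)).left).obj F)
    (tw M (up (List.ofFn (crd C n)).reverse) (qr C (Pw C n)))
  have h3 : (sl (C := C) t).left ≫ (qr C (Pw C n)).left = 𝟙 C.left := by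
    rw [← Over.comp_left, sl_qr]; rfl
  obtain ⟨e2⟩ := nonempty_pull_id h3 F
  have e3 := (Scheme.Modules.pullbackComp (sl (C := C) t).left (qr C (Pw C n)).left).app F ≪≫ e2
  obtain ⟨e4⟩ := K757.Fam.tens_congr ⟨e3⟩ ⟨e⟩
  exact ⟨e1 ≪≫ e4⟩

include hdim in
/-- On `C^n` the condition `H¹(C, F ⊗ M(-∑ x)) = 0` is open. -/
theorem exists_open_tw (n : ℕ) {r : ℕ} {F M : C.left.Modules} (hF : FlatMod.IsFinLocFreeOfRank r F)
    (hM : PicF.IsInvertible M) :
    ∃ U : (Pw C n).left.Opens, ∀ t : pt (Spec (CommRingCat.of k)) ⟶ Pw C n,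
      (atp t ∈ U ↔ Subsingleton (Coh.HH C.left (CohB1.tensorMod F (twp M (pts fun i => t ≫ crd C n i))) 1)) := by
  have hp := (smooth_Pw C n).2
  have hr : FlatMod.IsFinLocFreeOfRank (r * 1) (CohB1.tensorMod
      ((Scheme.Modules.pullback (qr C (Pw C n)).left).obj F)
      (tw M (up (List.ofFn (crd C n)).reverse) (qr C (Pw C n)))) :=
    rank_tens (Krr.H482.PullLambda.isFinLocFreeOfRank_pullback _ hF)
      (rank_one_iff.2 (isInvertible_tw C hdim M hM _ _))
  obtain ⟨U, hU⟩ := exists_open _ hr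
  refine ⟨U, fun t => (hU t).trans ?_⟩
  obtain ⟨e⟩ := nonempty_slice C n F M t
  exact ⟨Flat2D.LocalGlobalH.subsingleton_HH_of_iso e 1, Flat2D.LocalGlobalH.subsingleton_HH_of_iso e.symm 1⟩

include hdim in
/-- **Two open conditions on `Pic⁰` are simultaneously satisfied.** -/
theorem exists_common {r s : ℕ} {F₁ F₂ ξ₁ ξ₂ : C.left.Modules} (hF₁ : FlatMod.IsFinLocFreeOfRank r F₁)
    (hF₂ : FlatMod.IsFinLocFreeOfRank s F₂) (hξ₁ : PicF.IsInvertible ξ₁) (hξ₂ : PicF.IsInvertible ξ₂)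
    (hd : Curv2.deg k C.left ξ₁ 1 = Curv2.deg k C.left ξ₂ 1)
    (h₁ : Subsingleton (Coh.HH C.left (CohB1.tensorMod F₁ ξ₁) 1))
    (h₂ : Subsingleton (Coh.HH C.left (CohB1.tensorMod F₂ ξ₂) 1)) :
    ∃ ξ : C.left.Modules, PicF.IsInvertible ξ ∧ Curv2.deg k C.left ξ 1 = Curv2.deg k C.left ξ₁ 1 ∧
      Subsingleton (Coh.HH C.left (CohB1.tensorMod F₁ ξ) 1) ∧
      Subsingleton (Coh.HH C.left (CohB1.tensorMod F₂ ξ) 1) := by
  have hp : IsProper (C.left ↘ Spec (CommRingCat.of k)) := ‹IsProper C.hom›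
  have hsm : Smooth (C.left ↘ Spec (CommRingCat.of k)) := ‹Smooth C.hom›
  have cC : Crv k C.left := Crv.of_smooth hdim
  set χ : ℤ := Curv2.euler k C.left (Coh.structureModule C.left) with hχ
  -- an invertible module of large degree
  obtain ⟨M, hM, hMd⟩ := K708.PtTwist.exists_inv_ge cC (Curv2.deg k C.left ξ₁ 1 + max 0 (1 - χ))
  rw [dg_of_rank k (rank_one_iff.2 hM)] at hMd
  obtain ⟨n, hn⟩ : ∃ n : ℕ, Curv2.deg k C.left M 1 = Curv2.deg k C.left ξ₁ 1 + n :=
    ⟨(Curv2.deg k C.left M 1 - Curv2.deg k C.left ξ₁ 1).toNat, by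
      rw [Int.toNat_of_nonneg (by linarith [le_max_left 0 (1 - χ)])]; ring⟩
  -- a nonzero map `ξ → M`
  have hmap : ∀ ξ : C.left.Modules, PicF.IsInvertible ξ → Curv2.deg k C.left ξ 1 = Curv2.deg k C.left ξ₁ 1 →
      ∃ x : Fin n → (pt (Spec (CommRingCat.of k)) ⟶ C), Nonempty (ξ ≅ twp M (pts x)) := by
    intro ξ hξ hξd
    have hvξ := vb_of_inv hξ
    obtain ⟨ξ', ⟨pξ⟩⟩ := Dcoh.DualFLF.exists_exactPairing hvξ
    have hφ : ∃ φ : ξ ⟶ M, φ ≠ 0 := by
      by_contra hcon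
      push Not at hcon
      have h1 := (K708.HomH0.forall_hom_eq_zero_iff ξ ξ' M).1 hcon
      have h2 := K708.DualDeg.euler_hom cC hvξ (vb_of_inv hM) ξ'
      rw [K708.Coho.euler_eq k cC.dim.le, Module.finrank_zero_of_subsingleton] at h2
      rw [rk_of_rank (rank_one_iff.2 hξ), rk_of_rank (rank_one_iff.2 hM), dg_of_rank k (rank_one_iff.2 hξ),
        dg_of_rank k (rank_one_iff.2 hM), ← hχ, hξd] at h2
      push_cast at h2
      have h3 := le_max_right 0 (1 - χ)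
      omega
    obtain ⟨φ, hφ⟩ := hφ
    obtain ⟨x, e, -⟩ := exists_div_gen C hdim hξ hM φ hφ n (by rw [hn, hξd])
    exact ⟨x, ⟨e⟩⟩
  obtain ⟨x₁, ⟨e₁⟩⟩ := hmap ξ₁ hξ₁ rfl
  obtain ⟨x₂, ⟨e₂⟩⟩ := hmap ξ₂ hξ₂ hd.symm
  obtain ⟨U₁, hU₁⟩ := exists_open_tw C hdim n hF₁ hM
  obtain ⟨U₂, hU₂⟩ := exists_open_tw C hdim n hF₂ hM
  have hint := isIntegral_Pw C hdim n
  have hPp := (smooth_Pw C n).2
  have m₁ : atp (tup n x₁) ∈ U₁ := by
    rw [hU₁]
    have h : (fun i => tup n x₁ ≫ crd C n i) = x₁ := funext fun i => K226.Pow.tup_crd C n x₁ i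
    rw [h]
    obtain ⟨e⟩ := K757.Fam.tens_congr ⟨Iso.refl F₁⟩ ⟨e₁⟩
    exact Flat2D.LocalGlobalH.subsingleton_HH_of_iso e 1 h₁
  have m₂ : atp (tup n x₂) ∈ U₂ := by
    rw [hU₂]
    have h : (fun i => tup n x₂ ≫ crd C n i) = x₂ := funext fun i => K226.Pow.tup_crd C n x₂ i
    rw [h]
    obtain ⟨e⟩ := K757.Fam.tens_congr ⟨Iso.refl F₂⟩ ⟨e₂⟩
    exact Flat2D.LocalGlobalH.subsingleton_HH_of_iso e 1 h₂
  have hjac : JacobsonSpace (Pw C n).left := LocallyOfFiniteType.jacobsonSpace (Pw C n).hom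
  obtain ⟨z, ⟨hz₁, hz₂⟩, hzc⟩ := nonempty_inter_closedPoints
    (nonempty_preirreducible_inter U₁.2 U₂.2 ⟨_, m₁⟩ ⟨_, m₂⟩) (U₁.2.inter U₂.2).isLocallyClosed
  obtain ⟨t, rfl, -⟩ := exists_pt (T := Pw C n) z hzc
  refine ⟨twp M (pts fun i => t ≫ crd C n i), isInvertible_tw C hdim M hM _ _, ?_, (hU₁ t).1 hz₁, (hU₂ t).1 hz₂⟩
  rw [deg_twp C hdim M hM]
  simp [pts, hn]

end field

end K706.Xi
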