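import Groth.Agent.BunMod.K706.Xi
import Groth.Agent.VBCurve.K705.Setup
import Mathlib.CategoryTheory.Monoidal.Skeleton

/-!
# `exists_xi`: complementary twists

`X` a smooth proper geometrically connected curve over an algebraically closed field, `N` invertible of degree
`g - 1`, `E₀` a bundle of rank `r` and degree `0` with `H⁰(E₀ ⊗ N) = 0`, `δ` invertible of degree `0`: there are
`ξ`, `ξ'` invertible of degree `0` with `ξ ⊗ ξ' ≅ δ` and `H⁰(E₀ ⊗ ξ ⊗ N) = 0 = H⁰(E₀ ⊗ ξ' ⊗ N)`.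
-/

set_option autoImplicit false
set_option linter.unusedSectionVars false
universe u
open CategoryTheory CategoryTheory.Limits AlgebraicGeometry MonoidalCategory

namespace K706.Xi

open Groth.Agent K707.Base K707.Deg K707.Slope K707.Semi K707.TensL
open Groth.Agent.VarietyA.DegRank
open scoped Groth.Agent.Dcoh.MonCat

section classes

variable {X : Scheme.{u}}

/-- Isomorphism classes: tensor products are products. -/
theorem sk_tens (E F : X.Modules) : toSkeleton (CohB1.tensorMod E F) = toSkeleton E * toSkeleton F :=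
  Skeleton.toSkeleton_tensorObj E F

theorem sk_unit : toSkeleton (Coh.structureModule X) = 1 := rfl

theorem sk_iff {E F : X.Modules} : Nonempty (E ≅ F) ↔ toSkeleton E = toSkeleton F :=
  toSkeleton_eq_toSkeleton_iff.symm

theorem sub_congr {E F : X.Modules} (h : toSkeleton E = toSkeleton F) (n : ℕ)
    (hE : Subsingleton (Coh.HH X E n)) : Subsingleton (Coh.HH X F n) := by
  obtain ⟨e⟩ := sk_iff.2 h
  exact Flat2D.LocalGlobalH.subsingleton_HH_of_iso e n hE

end classes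

section hom

variable {X : Scheme.{u}} [IsIntegral X]

/-- `Hom(E ⊗ L, W) = 0` iff `H⁰(W ⊗ L⁻¹ ⊗ E^∨) = 0`. -/
theorem forall_hom_tw_iff {E E' L L' : X.Modules} [ExactPairing E E'] (hL : PicF.IsInvertible L)
    (e0 : Nonempty (CohB1.tensorMod L L' ≅ Coh.structureModule X)) (W : X.Modules) :
    (∀ φ : CohB1.tensorMod E L ⟶ W, φ = 0) ↔
      Subsingleton (Coh.HH X (CohB1.tensorMod (CohB1.tensorMod W L') E') 0) := by
  rw [← K708.HomH0.forall_hom_eq_zero_iff E E' (CohB1.tensorMod W L')]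
  have hT := isEquivalence hL
  obtain ⟨e⟩ : Nonempty ((T L).obj (CohB1.tensorMod W L') ≅ W) := by
    rw [sk_iff] at e0 ⊢
    change toSkeleton (CohB1.tensorMod (CohB1.tensorMod W L') L) = _
    rw [sk_tens, sk_tens, mul_assoc, mul_comm (toSkeleton L'), ← sk_tens, e0, sk_unit, mul_one]
  constructor
  · intro h ψ
    have h1 : (T L).map ψ ≫ e.hom = 0 := h _
    have h2 : (T L).map ψ = 0 := by rw [← cancel_mono e.hom, h1, zero_comp]
    exact (T L).map_injective (h2.trans ((T L).map_zero _ _).symm)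
  · intro h φ
    let φ' : (T L).obj E ⟶ W := φ
    have h1 : (T L).map ((T L).preimage (X := E) (Y := CohB1.tensorMod W L') (φ' ≫ e.inv)) = φ' ≫ e.inv :=
      (T L).map_preimage _
    have h0 : (T L).preimage (X := E) (Y := CohB1.tensorMod W L') (φ' ≫ e.inv) = 0 := h _
    rw [h0, (T L).map_zero] at h1
    have h2 : φ' ≫ e.inv = 0 ≫ e.inv := by rw [← h1, zero_comp]
    exact (cancel_mono e.inv).1 h2

end hom

section field

variable {k : Type u} [Field k] [IsAlgClosed k] {X : Scheme.{u}} [X.Over (Spec (CommRingCat.of k))]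
  [IsIntegral X] [IsProper (X ↘ Spec (CommRingCat.of k))] [Smooth (X ↘ Spec (CommRingCat.of k))]
  (hdim : topologicalKrullDim X = 1)

include hdim in
/-- In degree `n (g - 1)`: `H⁰ = 0` iff `H¹ = 0`. -/
theorem h01_iff {V : X.Modules} {n : ℕ} (hV : FlatMod.IsFinLocFreeOfRank n V)
    (hd : Curv2.deg k X V n = n * ((Curv2.genus k X : ℤ) - 1)) :
    Subsingleton (Coh.HH X V 0) ↔ Subsingleton (Coh.HH X V 1) := by
  have h1 := K703.Chi.rr k hdim V n
  rw [hd] at h1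
  have h2 : Module.finrank k (Coh.HH X V 0) = Module.finrank k (Coh.HH X V 1) := by
    have : (Module.finrank k (Coh.HH X V 0) : ℤ) = Module.finrank k (Coh.HH X V 1) := by linarith
    exact_mod_cast this
  constructor
  · intro h
    exact K703.Chi.subsingleton_of_finrank k (isCoh_of_rank hV)
      (by rw [← h2]; exact Module.finrank_zero_of_subsingleton)
  · intro h
    exact K703.Chi.subsingleton_of_finrank k (isCoh_of_rank hV)
      (by rw [h2]; exact Module.finrank_zero_of_subsingleton)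

include hdim in
theorem exists_common_over {r s : ℕ} {F₁ F₂ ξ₁ ξ₂ : X.Modules} (hF₁ : FlatMod.IsFinLocFreeOfRank r F₁)
    (hF₂ : FlatMod.IsFinLocFreeOfRank s F₂) (hξ₁ : PicF.IsInvertible ξ₁) (hξ₂ : PicF.IsInvertible ξ₂)
    (hd : Curv2.deg k X ξ₁ 1 = Curv2.deg k X ξ₂ 1)
    (h₁ : Subsingleton (Coh.HH X (CohB1.tensorMod F₁ ξ₁) 1))
    (h₂ : Subsingleton (Coh.HH X (CohB1.tensorMod F₂ ξ₂) 1)) :
    ∃ ξ : X.Modules, PicF.IsInvertible ξ ∧ Curv2.deg k X ξ 1 = Curv2.deg k X ξ₁ 1 ∧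
      Subsingleton (Coh.HH X (CohB1.tensorMod F₁ ξ) 1) ∧ Subsingleton (Coh.HH X (CohB1.tensorMod F₂ ξ) 1) := by
  have iC : IsIntegral (Over.mk (X ↘ Spec (CommRingCat.of k))).left := ‹IsIntegral X›
  have pC : IsProper (Over.mk (X ↘ Spec (CommRingCat.of k))).hom := ‹IsProper (X ↘ Spec (CommRingCat.of k))›
  have sC : Smooth (Over.mk (X ↘ Spec (CommRingCat.of k))).hom := ‹Smooth (X ↘ Spec (CommRingCat.of k))›
  exact exists_common (Over.mk (X ↘ Spec (CommRingCat.of k))) hdim hF₁ hF₂ hξ₁ hξ₂ hd h₁ h₂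

theorem deg_sk {E F : X.Modules} (h : toSkeleton E = toSkeleton F) (n : ℕ) :
    Curv2.deg k X E n = Curv2.deg k X F n :=
  K757.Geo.deg_congr (sk_iff.2 h) n

theorem deg_inv (cC : Crv k X) {L L' : X.Modules} (hL : PicF.IsInvertible L) (hL' : PicF.IsInvertible L')
    (e0 : Nonempty (CohB1.tensorMod L L' ≅ Coh.structureModule X)) :
    Curv2.deg k X L' 1 = - Curv2.deg k X L 1 := by
  obtain ⟨e⟩ := e0
  exact K708.Deg.deg_eq_neg k cC.dim.le (rank_one_iff.2 hL) (rank_one_iff.2 hL') e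

theorem deg_tw1 (cC : Crv k X) {L M : X.Modules} (hL : PicF.IsInvertible L) (hM : PicF.IsInvertible M) :
    Curv2.deg k X (CohB1.tensorMod L M) 1 = Curv2.deg k X L 1 + Curv2.deg k X M 1 := by
  rw [K757.Geo.deg_tw cC (rank_one_iff.2 hL) hM]
  push_cast
  ring

include hdim in
/-- **Complementary twists.** -/
theorem exists_xi_int {N : X.Modules} (hN : PicF.IsInvertible N)
    (hNd : Curv2.deg k X N 1 = (Curv2.genus k X : ℤ) - 1) {r : ℕ} {E₀ : X.Modules}
    (hE₀ : FlatMod.IsFinLocFreeOfRank r E₀) (hd : Curv2.deg k X E₀ r = 0)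
    (h0 : Subsingleton (Coh.HH X (CohB1.tensorMod E₀ N) 0)) {δ : X.Modules} (hδ : PicF.IsInvertible δ)
    (hδ0 : Curv2.deg k X δ 1 = 0) :
    ∃ ξ ξ' : X.Modules, PicF.IsInvertible ξ ∧ Curv2.deg k X ξ 1 = 0 ∧ PicF.IsInvertible ξ' ∧
      Curv2.deg k X ξ' 1 = 0 ∧ Nonempty (CohB1.tensorMod ξ ξ' ≅ δ) ∧
      Subsingleton (Coh.HH X (CohB1.tensorMod (CohB1.tensorMod E₀ ξ) N) 0) ∧
      Subsingleton (Coh.HH X (CohB1.tensorMod (CohB1.tensorMod E₀ ξ') N) 0) := by
  have cC : Crv k X := Crv.of_smooth hdim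
  obtain ⟨D⟩ := K703.Duality.nonempty_dualizing k X hdim
  have hDd := D.deg_w_of_isAlgClosed hdim
  obtain ⟨E', ⟨pE⟩⟩ := Dcoh.DualFLF.exists_exactPairing (isFinLocFree_of_rank hE₀)
  -- the rank and the degree of the dual
  have hE'v : FlatMod.IsFinLocFree E' :=
    vb_iso (K708.DualDeg.dualIso E₀ E').symm (Krr.H492.DualK.isFinLocFree_dl (isFinLocFree_of_rank hE₀))
  have hE'r : FlatMod.IsFinLocFreeOfRank r E' := by
    have h1 := isFinLocFreeOfRank_rk hE'v
    rwa [K708.DualDeg.rk_dual cC (isFinLocFree_of_rank hE₀) E', rk_of_rank hE₀] at h1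
  have hE'd : Curv2.deg k X E' r = 0 := by
    rw [← dg_of_rank k hE'r, K708.DualDeg.dg_dual cC (isFinLocFree_of_rank hE₀) E', dg_of_rank k hE₀, hd, neg_zero]
  -- `G` inverse of `δ ⊗ N`
  have hδN : PicF.IsInvertible (CohB1.tensorMod δ N) := Fdesc.LocGen.isInvertible_tensorMod hδ hN
  obtain ⟨G, hG, eG⟩ := Grpsch.PicGrp.exists_inverse hδN
  have hGd := deg_inv cC hδN hG eG
  rw [deg_tw1 cC hδ hN, hδ0, hNd, zero_add] at hGd
  have sG := sk_iff.1 eG
  rw [sk_tens, sk_tens, sk_unit] at sG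
  have hwG : PicF.IsInvertible (CohB1.tensorMod D.w G) := Fdesc.LocGen.isInvertible_tensorMod D.inv hG
  have hwGd : Curv2.deg k X (CohB1.tensorMod D.w G) 1 = (Curv2.genus k X : ℤ) - 1 := by
    rw [deg_tw1 cC D.inv hG, hDd, hGd]
    ring
  have hO : PicF.IsInvertible (Coh.structureModule X) := Fdesc.LocGen.isInvertible_structureModule
  -- twists by degree zero
  have key : ∀ {V L ξ : X.Modules}, FlatMod.IsFinLocFreeOfRank r V → Curv2.deg k X V r = 0 →
      PicF.IsInvertible L → Curv2.deg k X L 1 = (Curv2.genus k X : ℤ) - 1 → PicF.IsInvertible ξ →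
      Curv2.deg k X ξ 1 = 0 →
      (Subsingleton (Coh.HH X (CohB1.tensorMod (CohB1.tensorMod V L) ξ) 0) ↔
        Subsingleton (Coh.HH X (CohB1.tensorMod (CohB1.tensorMod V L) ξ) 1)) := by
    intro V L ξ hV hVd hL hLd hξ hξd
    refine h01_iff (k := k) hdim (K757.Geo.rank_tw cC (K757.Geo.rank_tw cC hV hL) hξ) ?_
    rw [K757.Geo.deg_tw cC (K757.Geo.rank_tw cC hV hL) hξ, K757.Geo.deg_tw cC hV hL, hVd, hLd, hξd]
    ring
  have hOd : Curv2.deg k X (Coh.structureModule X) 1 = 0 := K703.Chi.deg_structure k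
  -- the base points
  have b₁ : Subsingleton (Coh.HH X (CohB1.tensorMod (CohB1.tensorMod E₀ N) (Coh.structureModule X)) 1) := by
    rw [← key hE₀ hd hN hNd hO hOd]
    exact sub_congr (by rw [sk_tens _ (Coh.structureModule X), sk_unit, mul_one]) 0 h0
  have b₁' : Subsingleton (Coh.HH X (CohB1.tensorMod E₀ N) 1) :=
    sub_congr (by rw [sk_tens _ (Coh.structureModule X), sk_unit, mul_one]) 1 b₁
  have b₂ : Subsingleton (Coh.HH X (CohB1.tensorMod (CohB1.tensorMod E' (CohB1.tensorMod D.w G)) δ) 1) := by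
    rw [← key hE'r hE'd hwG hwGd hδ hδ0]
    have h1 : ∀ φ : CohB1.tensorMod E₀ N ⟶ D.w, φ = 0 := fun φ =>
      D.eq_zero (isCoh_of_rank (K757.Geo.rank_tw cC hE₀ hN)).1 b₁' φ
    rw [forall_hom_tw_iff (E := E₀) (E' := E') (L := N) (L' := CohB1.tensorMod G δ) hN (by
      rw [sk_iff, sk_tens, sk_tens, sk_unit, ← sG]
      ac_rfl)] at h1
    refine sub_congr ?_ 0 h1
    simp only [sk_tens]
    ac_rfl
  obtain ⟨ξ, hξ, hξd, c₁, c₂⟩ := exists_common_over (k := k) hdim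
    (K757.Geo.rank_tw cC hE₀ hN) (K757.Geo.rank_tw cC hE'r hwG) hO hδ (hOd.trans hδ0.symm) b₁ b₂
  have hξ0 : Curv2.deg k X ξ 1 = 0 := hξd.trans hOd
  obtain ⟨ξi, hξi, eξ⟩ := Grpsch.PicGrp.exists_inverse hξ
  have hξid := deg_inv cC hξ hξi eξ
  rw [hξ0, neg_zero] at hξid
  have sξ := sk_iff.1 eξ
  rw [sk_tens, sk_unit] at sξ
  have hξ' : PicF.IsInvertible (CohB1.tensorMod ξi δ) := Fdesc.LocGen.isInvertible_tensorMod hξi hδ
  have hξ'd : Curv2.deg k X (CohB1.tensorMod ξi δ) 1 = 0 := by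
    rw [deg_tw1 cC hξi hδ, hξid, hδ0, add_zero]
  have hξ'N : PicF.IsInvertible (CohB1.tensorMod (CohB1.tensorMod ξi δ) N) :=
    Fdesc.LocGen.isInvertible_tensorMod hξ' hN
  refine ⟨ξ, CohB1.tensorMod ξi δ, hξ, hξ0, hξ', hξ'd, ?_, ?_, ?_⟩
  · rw [sk_iff, sk_tens, sk_tens, ← mul_assoc, sξ, one_mul]
  · have h1 := (key hE₀ hd hN hNd hξ hξ0).2 c₁
    refine sub_congr ?_ 0 h1
    simp only [sk_tens]
    ac_rfl
  · -- `H¹(E₀ ⊗ ξ' ⊗ N) = 0` by duality
    have h1 := (key hE'r hE'd hwG hwGd hξ hξ0).2 c₂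
    have h2 : ∀ φ : CohB1.tensorMod E₀ (CohB1.tensorMod (CohB1.tensorMod ξi δ) N) ⟶ D.w, φ = 0 := by
      rw [forall_hom_tw_iff (E' := E') (L' := CohB1.tensorMod G ξ) hξ'N (by
        rw [sk_iff, sk_unit]
        simp only [sk_tens]
        calc toSkeleton ξi * toSkeleton δ * toSkeleton N * (toSkeleton G * toSkeleton ξ) =
            (toSkeleton ξ * toSkeleton ξi) * (toSkeleton δ * toSkeleton N * toSkeleton G) := by ac_rfl
          _ = 1 := by rw [sξ, sG, one_mul])]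
      refine sub_congr ?_ 0 h1
      simp only [sk_tens]
      ac_rfl
    have h3 := D.subsingleton_h1 (isCoh_of_rank (K757.Geo.rank_tw cC hE₀ hξ'N)).1 h2
    have h4 := (key hE₀ hd hN hNd hξ' hξ'd).2 (sub_congr (by simp only [sk_tens]; ac_rfl) 1 h3)
    refine sub_congr ?_ 0 h4
    simp only [sk_tens]
    ac_rfl

end field

/-- **Complementary twists**, form for a geometrically connected curve of genus `g`. -/
theorem exists_xi (k : Type u) [Field k] [IsAlgClosed k] (X : Scheme.{u}) [X.Over (Spec (CommRingCat.of k))]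
    [IsProper (X ↘ Spec (CommRingCat.of k))] [Smooth (X ↘ Spec (CommRingCat.of k))]
    [GeometricallyConnected (X ↘ Spec (CommRingCat.of k))] (hdim : topologicalKrullDim ↥X = 1)
    (g : ℕ) (hg : Curv2.genus k X = g) {N : X.Modules} (hN : PicF.IsInvertible N)
    (hNd : Curv2.deg k X N 1 = (g : ℤ) - 1) {r : ℕ} (E₀ : X.Modules)
    (hE₀ : FlatMod.IsFinLocFreeOfRank r E₀) (hd : Curv2.deg k X E₀ r = 0)
    (h0 : Subsingleton (Coh.HH X (CohB1.tensorMod E₀ N) 0)) (δ : X.Modules) (hδ : PicF.IsInvertible δ)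
    (hδ0 : Curv2.deg k X δ 1 = 0) :
    ∃ ξ ξ' : X.Modules, PicF.IsInvertible ξ ∧ Curv2.deg k X ξ 1 = 0 ∧ PicF.IsInvertible ξ' ∧
      Curv2.deg k X ξ' 1 = 0 ∧ Nonempty (CohB1.tensorMod ξ ξ' ≅ δ) ∧
      Subsingleton (Coh.HH X (CohB1.tensorMod (CohB1.tensorMod E₀ ξ) N) 0) ∧
      Subsingleton (Coh.HH X (CohB1.tensorMod (CohB1.tensorMod E₀ ξ') N) 0) := by
  subst hg
  have := K705.Setup.isIntegral_of_geomConn k X
  exact exists_xi_int hdim hN hNd hE₀ hd h0 hδ hδ0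

end K706.Xi
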